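import Groth.Agent.HyperP1.Hurwitz
import Groth.Agent.HyperP1.PurelyInsep
import Groth.Agent.HyperP1.LineMap
import Groth.Agent.HypX.UniqueCover
import Groth.Agent.CurveLuroth.FF
import Groth.Agent.CurveCohLib.RegularCurve
import Groth.Agent.ZetaCurve.Bridge
import Groth.Agent.GGAmple.Finite
import Groth.Agent.MorLib.GeomFibre

/-!
# A finite morphism of smooth proper curves does not raise the genus (algebraically closed field)
-/

noncomputable section

set_option autoImplicit false
set_option linter.style.haveILetI false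
set_option linter.unusedSectionVars false
set_option backward.isDefEq.respectTransparency false
set_option backward.isDefEq.respectTransparency.types false
set_option maxHeartbeats 1000000

open CategoryTheory CategoryTheory.Limits AlgebraicGeometry TopologicalSpace

namespace Groth.Agent.GenusMono

universe u

/-- A finite morphism from a one-dimensional integral scheme maps the generic point to the generic point. -/
theorem map_genericPoint {k : Type u} [Field k] {X Y : Scheme.{u}} [IsIntegral X] [IsIntegral Y]
    (q : Y ⟶ Spec (CommRingCat.of k)) [IsProper q] [Smooth q] (hX : topologicalKrullDim X = 1)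
    (hY : topologicalKrullDim Y = 1) (f : X ⟶ Y) [IsFinite f] :
    f (genericPoint X) = genericPoint Y := by
  letI : Y.Over (Spec (CommRingCat.of k)) := ⟨q⟩
  haveI : IsProper (Y ↘ Spec (CommRingCat.of k)) := ‹IsProper q›
  haveI : Smooth (Y ↘ Spec (CommRingCat.of k)) := ‹Smooth q›
  rcases ZetaCurve.eq_or_isClosed k Y hY (f (genericPoint X)) with h | h
  · exact h
  exfalso
  have hsub : Set.range f ⊆ {f (genericPoint X)} := by
    rintro _ ⟨x, rfl⟩
    exact ((genericPoint_specializes x).map f.continuous).mem_closed h rfl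
  haveI : Subsingleton ↥(Set.range f) :=
    ⟨fun a b => Subtype.ext ((hsub a.2).trans (hsub b.2).symm)⟩
  have h1 := GGAmple.dim_le_range f
  rw [hX] at h1
  have h2 : topologicalKrullDim ↥(Set.range f) ≤ 0 := by
    haveI : Subsingleton (IrreducibleCloseds ↥(Set.range f)) := ⟨fun A B => by
      refine IrreducibleCloseds.ext (Set.ext fun t => ?_)
      obtain ⟨a, ha⟩ := A.isIrreducible.nonempty
      obtain ⟨b, hb⟩ := B.isIrreducible.nonempty
      exact ⟨fun _ => Subsingleton.elim b t ▸ hb, fun _ => Subsingleton.elim a t ▸ ha⟩⟩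
    exact Order.krullDim_nonpos_of_subsingleton
  exact absurd (h1.trans h2) (by norm_num)

/-- Separability transported along an isomorphism from a separable subextension. -/
theorem sep_transport {A B : Type u} [Field A] [Field B] [Algebra A B] (S : IntermediateField A B)
    [Algebra.IsSeparable A S] (e : B ≃+* S) (σ : A →+* B) (h : ∀ a, σ a = e.symm (algebraMap A S a)) :
    letI := σ.toAlgebra; Algebra.IsSeparable A B := by
  have key : ∀ (B' : Type u) [Field B'] [Algebra A B'] (e' : S ≃+* B'),
      (∀ a, algebraMap A B' a = e' (algebraMap A S a)) → Algebra.IsSeparable A B' := fun B' _ _ e' h' =>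
    Algebra.IsSeparable.of_equiv_equiv (RingEquiv.refl A) e' (RingHom.ext fun a => h' a)
  exact @key B _ σ.toAlgebra e.symm h

variable {k : Type u} [Field k] [IsAlgClosed k]

/-- The separable case, for a morphism given by its map of function fields. -/
theorem genus_le_sep {X Y : Scheme.{u}} [IsIntegral X] [IsIntegral Y]
    (p : X ⟶ Spec (CommRingCat.of k)) (q : Y ⟶ Spec (CommRingCat.of k))
    [IsProper p] [Smooth p] [IsProper q] [Smooth q]
    (hX : topologicalKrullDim X = 1) (hY : topologicalKrullDim Y = 1)
    (g : X ⟶ Y) (hg : g ≫ q = p) (σ : Y.functionField ⟶ X.functionField)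
    (hσ : X.fromSpecStalk (genericPoint X) ≫ g = Spec.map σ ≫ Y.fromSpecStalk (genericPoint Y))
    (hsep : letI := σ.hom.toAlgebra; Algebra.IsSeparable Y.functionField X.functionField) :
    @Curv2.genus k _ Y ⟨q⟩ ≤ @Curv2.genus k _ X ⟨p⟩ := by
  letI : X.Over (Spec (CommRingCat.of k)) := ⟨p⟩
  letI : Y.Over (Spec (CommRingCat.of k)) := ⟨q⟩
  haveI : IsProper (X ↘ Spec (CommRingCat.of k)) := ‹IsProper p›
  haveI : IsProper (Y ↘ Spec (CommRingCat.of k)) := ‹IsProper q›
  haveI : Smooth (X ↘ Spec (CommRingCat.of k)) := ‹Smooth p›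
  haveI : Smooth (Y ↘ Spec (CommRingCat.of k)) := ‹Smooth q›
  have e : g (genericPoint X) = genericPoint Y := by
    haveI : Subsingleton ↥(Spec Y.functionField) := inferInstanceAs (Subsingleton (PrimeSpectrum Y.functionField))
    have h := congrArg (fun φ : Spec X.functionField ⟶ Y => φ (IsLocalRing.closedPoint X.functionField)) hσ
    simp only [Scheme.Hom.comp_apply] at h
    rw [show X.fromSpecStalk (genericPoint X) (IsLocalRing.closedPoint X.functionField) = genericPoint X from
      Scheme.fromSpecStalk_closedPoint, Subsingleton.elim (Spec.map σ _) (IsLocalRing.closedPoint _)] at h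
    exact h.trans Scheme.fromSpecStalk_closedPoint
  haveI : IsProper g := by
    haveI : IsProper (g ≫ q) := hg.symm ▸ ‹IsProper p›
    exact IsProper.of_comp g q
  have hclosed : ¬ IsClosed ({genericPoint Y} : Set Y) := by
    intro h
    haveI : Subsingleton Y := ⟨fun a b =>
      ((genericPoint_specializes a).mem_closed h rfl).trans ((genericPoint_specializes b).mem_closed h rfl).symm⟩
    haveI : Subsingleton (IrreducibleCloseds Y) := ⟨fun A B => by
      refine IrreducibleCloseds.ext (Set.ext fun t => ?_)
      obtain ⟨a, ha⟩ := A.isIrreducible.nonempty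
      obtain ⟨b, hb⟩ := B.isIrreducible.nonempty
      exact ⟨fun _ => Subsingleton.elim b t ▸ hb, fun _ => Subsingleton.elim a t ▸ ha⟩⟩
    have := (hY.symm.le.trans (Order.krullDim_nonpos_of_subsingleton (α := IrreducibleCloseds Y)))
    exact absurd this (by norm_num)
  haveI : LocallyQuasiFinite g := by
    refine LocallyQuasiFinite.of_finite_preimage_singleton g fun y => ?_
    by_cases hy : y = genericPoint Y
    · refine (Set.finite_singleton (genericPoint X)).subset fun z hz => ?_
      rcases ZetaCurve.eq_or_isClosed k X hX z with h | h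
      · exact h
      · refine (hclosed ?_).elim
        have hh := g.isClosedMap _ h
        rw [Set.image_singleton, show g z = y from hz, hy] at hh
        exact hh
    · let U : X.Opens := ⟨(g ⁻¹' closure {y})ᶜ, (isClosed_closure.preimage g.continuous).isOpen_compl⟩
      have hU : genericPoint X ∈ U := fun hc => hy (by
        have hs : y ⤳ genericPoint Y := e ▸ specializes_iff_mem_closure.2 hc
        exact hs.antisymm (genericPoint_specializes y) |>.eq)
      refine ((ZetaCurve.finite_not_mem k X hX hU).image Subtype.val).subset fun z hz => ?_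
      rcases ZetaCurve.eq_or_isClosed k X hX z with h | h
      · refine (hy ?_).elim
        rw [← show g z = y from hz, h, e]
      · exact ⟨⟨z, h⟩, fun hzU => hzU (subset_closure hz), rfl⟩
  haveI : IsFinite g := IsFinite.of_isProper_of_locallyQuasiFinite g
  have hψ : Y.presheaf.stalkSpecializes (specializes_of_eq e) ≫ g.stalkMap (genericPoint X) = σ := by
    apply Spec.map_injective
    rw [← cancel_mono (Y.fromSpecStalk (genericPoint Y)), ← hσ, Spec.map_comp, Category.assoc,
      Scheme.SpecMap_stalkSpecializes_fromSpecStalk, Scheme.SpecMap_stalkMap_fromSpecStalk]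
  have h := HyperP1.genus_formula k g hg e hX hY (CurveCohLib.finrank_h0_eq_one k X)
    (CurveCohLib.finrank_h0_eq_one k Y) (HyperP1.separable_residue g e (by rw [hψ]; exact hsep))
  have hn : 1 ≤ g.residueDegree (genericPoint X) := by
    letI := (g.residueFieldMap (genericPoint X)).hom.toAlgebra
    haveI : Module.Finite (Y.residueField (g (genericPoint X))) (X.residueField (genericPoint X)) :=
      RingHom.finite_algebraMap.1 (MorLib.GF.finite_residueFieldMap g (genericPoint X))
    exact Module.finrank_pos
  by_contra hlt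
  push Not at hlt
  nlinarith [h, hn, Int.natCast_nonneg (Module.finrank k (Coh.HH X (Omega.sheaf g) 0))]

/-- Twisting the structure map by an automorphism of the field does not change the genus. -/
theorem genus_twist {k : Type u} [Field k] {X : Scheme.{u}} (p p' : X ⟶ Spec (CommRingCat.of k))
    (τ : k ≃+* k) (h : p' = p ≫ Spec.map (CommRingCat.ofHom τ.toRingHom)) :
    @Curv2.genus k _ X ⟨p'⟩ = @Curv2.genus k _ X ⟨p⟩ := by
  have hg : ∀ c : k, Coh.toGlobal p' c = Coh.toGlobal p (τ c) := fun c => by
    subst h
    have h1 : (Scheme.ΓSpecIso (CommRingCat.of k)).inv ≫ (Spec.map (CommRingCat.ofHom τ.toRingHom)).appTop =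
        CommRingCat.ofHom τ.toRingHom ≫ (Scheme.ΓSpecIso (CommRingCat.of k)).inv :=
      (Scheme.ΓSpecIso_inv_naturality _).symm
    show ((p ≫ Spec.map _).appTop).hom ((Scheme.ΓSpecIso (CommRingCat.of k)).inv.hom c) = _
    rw [Scheme.Hom.comp_appTop]
    exact congrArg p.appTop.hom (congr($h1 c))
  have key : ∀ {M : Type u} [AddCommGroup M] (m₁ m₂ : Module k M),
      (∀ (c : k) (m : M), (letI := m₁; c • m) = (letI := m₂; τ c • m)) →
      @Module.finrank k M _ _ m₁ = @Module.finrank k M _ _ m₂ := fun {M} _ m₁ m₂ hm =>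
    congrArg Cardinal.toNat (@rank_eq_of_equiv_equiv k k M M _ _ m₁ _ _ m₂ (fun c => τ c) (AddEquiv.refl M)
      τ.bijective hm)
  refine key (@Coh.moduleOver k _ X ⟨p'⟩ (Coh.structureModule X) 1)
    (@Coh.moduleOver k _ X ⟨p⟩ (Coh.structureModule X) 1) fun c m => ?_
  show Coh.toGlobal p' c • m = Coh.toGlobal p (τ c) • m
  rw [hg]

theorem genus_le_of_finite {X Y : Scheme.{u}} [IsIntegral X] [IsIntegral Y]
    (p : X ⟶ Spec (CommRingCat.of k)) (q : Y ⟶ Spec (CommRingCat.of k))
    [IsProper p] [Smooth p] [IsProper q] [Smooth q]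
    (hX : topologicalKrullDim X = 1) (hY : topologicalKrullDim Y = 1)
    (f : X ⟶ Y) [IsFinite f] (hf : f ≫ q = p) :
    @Curv2.genus k _ Y ⟨q⟩ ≤ @Curv2.genus k _ X ⟨p⟩ := by
  have e := map_genericPoint q hX hY f
  letI iX : X.Over (Spec (CommRingCat.of k)) := ⟨p⟩
  letI iY : Y.Over (Spec (CommRingCat.of k)) := ⟨q⟩
  haveI : IsProper (X ↘ Spec (CommRingCat.of k)) := ‹IsProper p›
  haveI : IsProper (Y ↘ Spec (CommRingCat.of k)) := ‹IsProper q›
  haveI : Smooth (X ↘ Spec (CommRingCat.of k)) := ‹Smooth p›
  haveI : Smooth (Y ↘ Spec (CommRingCat.of k)) := ‹Smooth q›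
  let ψ : Y.functionField ⟶ X.functionField :=
    Y.presheaf.stalkSpecializes (specializes_of_eq e) ≫ f.stalkMap (genericPoint X)
  have hψσ : X.fromSpecStalk (genericPoint X) ≫ f = Spec.map ψ ≫ Y.fromSpecStalk (genericPoint Y) := by
    simp only [ψ, Spec.map_comp, Category.assoc, Scheme.SpecMap_stalkSpecializes_fromSpecStalk,
      Scheme.SpecMap_stalkMap_fromSpecStalk]
  letI algψ : Algebra Y.functionField X.functionField := ψ.hom.toAlgebra
  by_cases hsep : Algebra.IsSeparable Y.functionField X.functionField
  · exact genus_le_sep p q hX hY f hf ψ hψσ hsep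
  letI := ZetaCurve.ffAlg k X
  letI := ZetaCurve.ffAlg k Y
  have hψ : CommRingCat.ofHom (algebraMap k Y.functionField) ≫ ψ =
      CommRingCat.ofHom (algebraMap k X.functionField) := by
    apply Spec.map_injective
    simp only [ψ, Spec.map_comp, Category.assoc, ← HyperP1.fromSpecStalk_over,
      Scheme.SpecMap_stalkSpecializes_fromSpecStalk_assoc, Scheme.SpecMap_stalkMap_fromSpecStalk_assoc]
    exact congrArg (X.fromSpecStalk (genericPoint X) ≫ ·) hf
  have hψc : ∀ c : k, ψ (algebraMap k Y.functionField c) = algebraMap k X.functionField c := fun c => congr($hψ c)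
  have hKX := ZetaCurve.isFunctionField k X hX (CurveCohLib.finrank_h0_eq_one k X)
  have hKY := ZetaCurve.isFunctionField k Y hY (CurveCohLib.finrank_h0_eq_one k Y)
  obtain ⟨y, hy⟩ := hKY.1
  haveI hfin : FiniteDimensional Y.functionField X.functionField := by
    let ψa : Y.functionField →ₐ[k] X.functionField := { ψ.hom with commutes' := hψc }
    have hty : Transcendental k (ψ y) := fun h => hy.1 ((isAlgebraic_algHom_iff ψa ψ.hom.injective).1 h)
    haveI := FFLib.IsFF.finite_adjoin hKX.1 hty
    haveI : IsScalarTower k Y.functionField X.functionField :=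
      IsScalarTower.of_algebraMap_eq fun c => (hψc c).symm
    let F := IntermediateField.adjoin k ({y} : Set Y.functionField)
    have hle : ∀ z ∈ IntermediateField.adjoin k ({ψ y} : Set X.functionField), z ∈ ψa.fieldRange :=
      IntermediateField.adjoin_simple_le_iff.2 ⟨y, rfl⟩
    obtain ⟨t, ht⟩ := Module.Finite.fg_top
      (R := IntermediateField.adjoin k ({ψ y} : Set X.functionField)) (M := X.functionField)
    refine ⟨⟨t, eq_top_iff.2 fun a _ => ?_⟩⟩
    obtain ⟨c, -, hc⟩ := Submodule.mem_span_finset.1 (ht ▸ Submodule.mem_top (x := a))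
    rw [← hc]
    refine Submodule.sum_mem _ fun i hi => ?_
    obtain ⟨b, hb⟩ := hle _ (c i).2
    rw [IntermediateField.smul_def, smul_eq_mul, ← hb]
    exact Submodule.smul_mem _ b (Submodule.subset_span hi)
  rcases CharP.exists' X.functionField with h0 | ⟨ℓ, hℓ, hℓK⟩
  · haveI := h0
    haveI : CharZero Y.functionField := (RingHom.charZero_iff ψ.hom.injective).2 h0
    exact (hsep inferInstance).elim
  haveI := hℓ
  haveI := hℓK
  haveI : CharP k ℓ := (RingHom.charP_iff (algebraMap k X.functionField) (algebraMap k X.functionField).injective ℓ).2 inferInstance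
  haveI : ExpChar k ℓ := .prime hℓ.out
  haveI : ExpChar X.functionField ℓ := .prime hℓ.out
  haveI : CharP Y.functionField ℓ := (RingHom.charP_iff ψ.hom ψ.hom.injective ℓ).2 inferInstance
  haveI : ExpChar Y.functionField ℓ := .prime hℓ.out
  haveI : PerfectRing k ℓ := PerfectField.toPerfectRing ℓ
  let S := separableClosure Y.functionField X.functionField
  haveI : ExpChar S ℓ := (algebraMap S X.functionField).expChar (algebraMap S X.functionField).injective ℓ
  haveI : FiniteDimensional S X.functionField := Module.Finite.right Y.functionField S X.functionField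
  obtain ⟨n, hn⟩ := HyperP1.exists_iterateFrobenius hKX ℓ _ S.toSubfield rfl
    (Module.finrank_pos (R := S) (M := X.functionField)).ne'
    (fun c => by rw [← hψc c]; exact S.algebraMap_mem _) (fun a => by
      obtain ⟨m, b, hb⟩ := IsPurelyInseparable.pow_mem (F := S) ℓ a
      exact ⟨m, hb ▸ b.2⟩)
  let φ : X.functionField →+* S :=
    (iterateFrobenius X.functionField ℓ n).codRestrict S.toSubfield fun a => by rw [hn]; exact ⟨a, rfl⟩
  have hφ : Function.Bijective φ := ⟨φ.injective, fun b => by
    obtain ⟨a, ha⟩ : (b : X.functionField) ∈ (iterateFrobenius X.functionField ℓ n).fieldRange := hn ▸ b.2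
    exact ⟨a, Subtype.ext ha⟩⟩
  let eS : X.functionField ≃+* S := RingEquiv.ofBijective φ hφ
  let σ : Y.functionField ⟶ X.functionField :=
    CommRingCat.ofHom (eS.symm.toRingHom.comp (algebraMap Y.functionField S))
  have hσ' : ∀ a, iterateFrobenius X.functionField ℓ n (σ a) = ψ a := fun a =>
    congrArg Subtype.val (eS.apply_symm_apply (algebraMap Y.functionField S a))
  let τ : k ≃+* k := (iterateFrobeniusEquiv k ℓ n).symm
  let p' : X ⟶ Spec (CommRingCat.of k) := p ≫ Spec.map (CommRingCat.ofHom τ.toRingHom)
  haveI : IsIso (CommRingCat.ofHom τ.toRingHom) := τ.toCommRingCatIso.isIso_hom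
  haveI : IsProper p' := inferInstance
  haveI : Smooth p' := inferInstance
  have hσk : CommRingCat.ofHom (algebraMap k Y.functionField) ≫ σ =
      CommRingCat.ofHom τ.toRingHom ≫ CommRingCat.ofHom (algebraMap k X.functionField) := by
    refine CommRingCat.hom_ext (RingHom.ext fun c => (iterateFrobenius X.functionField ℓ n).injective ?_)
    show iterateFrobenius X.functionField ℓ n (σ (algebraMap k Y.functionField c)) =
      iterateFrobenius X.functionField ℓ n (algebraMap k X.functionField (τ c))
    rw [hσ', hψc, iterateFrobenius_def, ← map_pow]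
    congr 1
    exact ((iterateFrobeniusEquiv k ℓ n).apply_symm_apply c).symm
  have h' : X.fromSpecStalk (genericPoint X) ≫ p' =
      Spec.map σ ≫ Y.fromSpecStalk (genericPoint Y) ≫ q := by
    show X.fromSpecStalk (genericPoint X) ≫ (X ↘ Spec (CommRingCat.of k)) ≫ _ =
      Spec.map σ ≫ Y.fromSpecStalk (genericPoint Y) ≫ (Y ↘ Spec (CommRingCat.of k))
    rw [← Category.assoc, HyperP1.fromSpecStalk_over, HyperP1.fromSpecStalk_over, ← Spec.map_comp, ← Spec.map_comp, hσk]
  have hg : ∃ g : X ⟶ Y, g ≫ q = p' ∧
      X.fromSpecStalk (genericPoint X) ≫ g = Spec.map σ ≫ Y.fromSpecStalk (genericPoint Y) := by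
    letI iX' : X.Over (Spec (CommRingCat.of k)) := ⟨p'⟩
    haveI : IsProper (X ↘ Spec (CommRingCat.of k)) := ‹IsProper p'›
    haveI : Smooth (X ↘ Spec (CommRingCat.of k)) := ‹Smooth p'›
    letI := ZetaCurve.ffAlg k X
    have h2 : CommRingCat.ofHom (algebraMap k Y.functionField) ≫ σ =
        CommRingCat.ofHom (algebraMap k X.functionField) := by
      apply Spec.map_injective
      rw [Spec.map_comp, ← HyperP1.fromSpecStalk_over, ← HyperP1.fromSpecStalk_over]
      exact h'.symm
    let θ : Y.functionField →ₐ[k] X.functionField := AlgHom.mk σ.hom fun c => congr($h2 c)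
    exact HypX.exists_hom_of_ff k hX θ
  obtain ⟨g, hg, hgσ⟩ := hg
  rw [← genus_twist p p' τ rfl]
  refine genus_le_sep p' q hX hY g hg σ hgσ ?_
  exact sep_transport S eS σ.hom fun a => rfl

end Groth.Agent.GenusMono
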