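import Groth.Agent.GenusMono.Basic
import Groth.Agent.CurveBC.Main

/-!
# A finite morphism of smooth proper geometrically connected curves does not raise the genus
-/

noncomputable section

set_option autoImplicit false
set_option linter.style.haveILetI false
set_option linter.unusedSectionVars false
set_option backward.isDefEq.respectTransparency false
set_option backward.isDefEq.respectTransparency.types false
set_option maxHeartbeats 1000000

open CategoryTheory CategoryTheory.Limits AlgebraicGeometry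

namespace Groth.Agent.GenusMono

universe u

theorem genus_le (k : Type u) [Field k] {X Y : Scheme.{u}}
    (p : X ⟶ Spec (CommRingCat.of k)) (q : Y ⟶ Spec (CommRingCat.of k))
    [IsProper p] [Smooth p] [GeometricallyConnected p] [IsProper q] [Smooth q] [GeometricallyConnected q]
    (hX : topologicalKrullDim X = 1) (hY : topologicalKrullDim Y = 1)
    (f : X ⟶ Y) [IsFinite f] (hf : f ≫ q = p) :
    @Curv2.genus k _ Y ⟨q⟩ ≤ @Curv2.genus k _ X ⟨p⟩ := by
  letI : X.Over (Spec (CommRingCat.of k)) := ⟨p⟩
  letI : Y.Over (Spec (CommRingCat.of k)) := ⟨q⟩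
  haveI : IsProper (X ↘ Spec (CommRingCat.of k)) := ‹IsProper p›
  haveI : IsProper (Y ↘ Spec (CommRingCat.of k)) := ‹IsProper q›
  haveI : Smooth (X ↘ Spec (CommRingCat.of k)) := ‹Smooth p›
  haveI : Smooth (Y ↘ Spec (CommRingCat.of k)) := ‹Smooth q›
  haveI : GeometricallyConnected (X ↘ Spec (CommRingCat.of k)) := ‹GeometricallyConnected p›
  haveI : GeometricallyConnected (Y ↘ Spec (CommRingCat.of k)) := ‹GeometricallyConnected q›
  have hX0 := CurveBC.finrank_h0_of_geometricallyConnected k X
  have hY0 := CurveBC.finrank_h0_of_geometricallyConnected k Y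
  let K := AlgebraicClosure k
  letI := CurveBC.overBar k X
  letI := CurveBC.overBar k Y
  obtain ⟨hpX, hsX, hiX, hdX, -, -⟩ := CurveBC.bar_facts k X hX hX0
  obtain ⟨hpY, hsY, hiY, hdY, -, -⟩ := CurveBC.bar_facts k Y hY hY0
  haveI := hpX
  haveI := hsX
  haveI := hiX
  haveI := hpY
  haveI := hsY
  haveI := hiY
  let fb : Curv2.bc k X K ⟶ Curv2.bc k Y K :=
    pullback.map _ _ _ _ f (𝟙 _) (𝟙 _) (by rw [Category.comp_id]; exact hf.symm) (by rw [Category.comp_id, Category.id_comp])
  have hfst : Curv2.bcFst k X K ≫ f = fb ≫ Curv2.bcFst k Y K := (pullback.lift_fst _ _ _).symm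
  have hsnd : fb ≫ Curv2.bcSnd k Y K = Curv2.bcSnd k X K :=
    (pullback.lift_snd _ _ _).trans (Category.comp_id _)
  have hsq : IsPullback (Curv2.bcFst k X K) fb f (Curv2.bcFst k Y K) := by
    refine IsPullback.of_bot ?_ hfst (CurveBC.isPullback_bar k Y)
    have h := CurveBC.isPullback_bar k X
    rwa [show fb ≫ (Curv2.bc k Y K ↘ Spec (CommRingCat.of K)) = Curv2.bc k X K ↘ Spec (CommRingCat.of K) from hsnd,
      show f ≫ (Y ↘ Spec (CommRingCat.of k)) = X ↘ Spec (CommRingCat.of k) from hf]
  haveI := quasiSeparatedSpace_of_quasiSeparated (X ↘ Spec (CommRingCat.of k))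
  haveI := QuasiCompact.compactSpace_of_compactSpace (X ↘ Spec (CommRingCat.of k))
  haveI := quasiSeparatedSpace_of_quasiSeparated (Y ↘ Spec (CommRingCat.of k))
  haveI := QuasiCompact.compactSpace_of_compactSpace (Y ↘ Spec (CommRingCat.of k))
  haveI : IsFinite fb := MorphismProperty.of_isPullback hsq inferInstance
  rw [← CurveBC.genus_eq k K (Curv2.bcFst k X K) (CurveBC.isPullback_bar k X),
    ← CurveBC.genus_eq k K (Curv2.bcFst k Y K) (CurveBC.isPullback_bar k Y)]
  exact genus_le_of_finite (Curv2.bc k X K ↘ Spec (CommRingCat.of K)) (Curv2.bc k Y K ↘ Spec (CommRingCat.of K))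
    hdX hdY fb hsnd

end Groth.Agent.GenusMono
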